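import Groth.Agent.H17.PrimaryDecomp
import Groth.Agent.H10Coh.Support
import Groth.Agent.H11Tilde.ModLoc
import Mathlib

/-! Removing embedded associated points of a coherent module. -/

set_option autoImplicit false
set_option linter.style.haveILetI false
universe u

open CategoryTheory CategoryTheory.Limits AlgebraicGeometry Opposite TopologicalSpace

namespace Groth.Agent.H11Embedded

variable {X : Scheme.{u}}

theorem res_apply {A B : X.Modules} (f : A ⟶ B) {V W : X.Opens} (h : V ≤ W) (s : Γ(A, W)) :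
    f.app V (A.presheaf.map (homOfLE h).op s) = B.presheaf.map (homOfLE h).op (f.app W s) :=
  congr($((Scheme.Modules.Hom.mapPresheaf f).naturality (homOfLE h).op) s)

theorem app_zero_apply {A B C : X.Modules} {f : A ⟶ B} {g : B ⟶ C} (h : f ≫ g = 0) (W : X.Opens) (s : Γ(A, W)) :
    g.app W (f.app W s) = 0 :=
  congr($(congr(Scheme.Modules.Hom.app $h W)) s)

theorem comp_apply' {A B C : X.Modules} {f : A ⟶ B} {g : B ⟶ C} {h : A ⟶ C} (e : f ≫ g = h)
    (W : X.Opens) (s : Γ(A, W)) : g.app W (f.app W s) = h.app W s :=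
  congr($(congr(Scheme.Modules.Hom.app $e W)) s)

theorem eq_zero_of_germs {G : X.Modules} {W : X.Opens} (s : Γ(G, W))
    (h : ∀ y (hy : y ∈ W), G.presheaf.germ W y hy s = 0) : s = 0 := by
  refine TopCat.Presheaf.section_ext (⟨G.presheaf, G.isSheaf⟩ : TopCat.Sheaf Ab.{u} X) W _ _ fun y hy => ?_
  show G.presheaf.germ W y hy s = G.presheaf.germ W y hy 0
  rw [map_zero]
  exact h y hy

/-- A section of a module with one associated point vanishes if its germ there does. -/
theorem eq_zero_of_germ_ass {G : X.Modules} (hG : Coh.IsQCoh G) {x : X} (hA : AssSch.Ass G = {x})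
    {W : X.Opens} (s : Γ(G, W)) (h : ∀ hx : x ∈ W, G.presheaf.germ W x hx s = 0) : s = 0 := by
  refine eq_zero_of_germs s fun y hy => ?_
  by_contra hne
  obtain ⟨V, hV, hyV, hle⟩ := exists_isAffineOpen_mem_and_subset (U := W) hy
  have hle' : V ≤ W := hle
  obtain ⟨z, hzV, hz, -, hz0⟩ := H17.AssPts.exists_ass_specializes_of_germ G hG hV hyV
    (s := G.presheaf.map (homOfLE hle').op s) (by rw [TopCat.Presheaf.germ_res_apply]; exact hne)
  rw [hA, Set.mem_singleton_iff] at hz
  subst hz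
  rw [TopCat.Presheaf.germ_res_apply] at hz0
  exact hz0 (h _)

theorem nontrivial_of_specializes (F : X.Modules) (hF : Coh.IsQCoh F) {z y : X} (h : z ⤳ y)
    (hz : Nontrivial (F.presheaf.stalk z)) : Nontrivial (F.presheaf.stalk y) := by
  by_contra hy
  rw [not_nontrivial_iff_subsingleton] at hy
  obtain ⟨m, hm⟩ := exists_ne (0 : F.presheaf.stalk z)
  obtain ⟨V, hV, hyV, -⟩ := exists_isAffineOpen_mem_and_subset (U := (⊤ : X.Opens)) (x := y) trivial
  have hzV : z ∈ V := h.mem_open V.2 hyV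
  obtain ⟨t, s, ht, hts⟩ := H17.AssPts.exists_smul_germ_eq F hF hV hzV m
  have hs : F.presheaf.germ V y hyV s = F.presheaf.germ V y hyV 0 := Subsingleton.elim _ _
  obtain ⟨W, hyW, i1, i2, hW⟩ := F.presheaf.germ_eq y hyV hyV _ _ hs
  have hs0 : F.presheaf.germ V z hzV s = 0 := by
    rw [← TopCat.Presheaf.germ_res_apply F.presheaf i1 z (h.mem_open W.2 hyW) s, hW,
      TopCat.Presheaf.germ_res_apply, map_zero]
  rw [hs0] at hts
  exact hm (((H17.AssPts.isUnit_germ_iff hzV t).2 ht).smul_eq_zero.1 hts)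

/-- The associated points that are not proper specializations of associated points. -/
def minAss (F : X.Modules) : Set X := {z | z ∈ AssSch.Ass F ∧ ∀ w ∈ AssSch.Ass F, w ⤳ z → w = z}

variable [IsLocallyNoetherian X]

theorem exists_minAss (F : X.Modules) (hF : Coh.IsCoh F) {y : X} (hy : ∃ w ∈ AssSch.Ass F, w ⤳ y) :
    ∃ z ∈ minAss F, z ⤳ y := by
  obtain ⟨V, hV, hyV, -⟩ := exists_isAffineOpen_mem_and_subset (U := (⊤ : X.Opens)) (x := y) trivial
  let S := {w | (w ∈ AssSch.Ass F ∧ w ∈ V) ∧ w ⤳ y}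
  have hS : S.Finite := (H17.Primary.finite_ass_affine hF hV).subset fun w hw => hw.1
  obtain ⟨w, hw, hwy⟩ := hy
  obtain ⟨z, hz, hmax⟩ := hS.exists_maximal (s := S) ⟨w, ⟨⟨hw, hwy.mem_open V.2 hyV⟩, hwy⟩⟩
  refine ⟨z, ⟨hz.1.1, fun w' hw' hwz => ?_⟩, hz.2⟩
  have h2 : z ⤳ w' := hmax ⟨⟨hw', (hwz.trans hz.2).mem_open V.2 hyV⟩, hwz.trans hz.2⟩ hwz
  exact (hwz.antisymm h2).eq

theorem exists_remove (F : X.Modules) (hF : Coh.IsCoh F) :
    ∃ K : Subobject F, Coh.IsCoh (K : X.Modules) ∧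
      (∀ U : X.Opens, (U : Set ↥X) ∩ CohB1.support F ⊆ CohB1.support (K : X.Modules) → (U : Set ↥X) ∩ CohB1.support F = ∅) ∧
      (∀ K' : Subobject F, Coh.IsCoh (K' : X.Modules) →
        (∀ U : X.Opens, (U : Set ↥X) ∩ CohB1.support F ⊆ CohB1.support (K' : X.Modules) → (U : Set ↥X) ∩ CohB1.support F = ∅) →
        K' ≤ K) ∧
      CohB1.support (cokernel K.arrow) = CohB1.support F ∧
      (∀ x : ↥X, Curv2.IsAssPoint (cokernel K.arrow) x → ∀ y : ↥X, Curv2.IsAssPoint (cokernel K.arrow) y → y ⤳ x → y = x) ∧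
      ∃ U : X.Opens, Dense (U : Set ↥X) ∧ CohB1.support F ⊆ closure ((U : Set ↥X) ∩ CohB1.support F) ∧
        IsIso ((Scheme.Modules.restrictFunctor U.ι).map (cokernel.π K.arrow)) := by
  classical
  obtain ⟨Q, q, -, hQ, hA, hz, -⟩ := H17.PrimaryDecomp.exists_decomposition F hF
  have hsupp : ∀ {M : X.Modules} {y : X}, y ∈ CohB1.support M ↔ Nontrivial (M.presheaf.stalk y) :=
    fun {M y} => not_subsingleton_iff_nontrivial
  have hsF : ∀ y, y ∈ CohB1.support F → ∃ z ∈ minAss F, z ⤳ y := fun y hy =>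
    exists_minAss F hF (H17.AssPts.exists_ass_specializes F hF.1 (hsupp.1 hy))
  have hassF : ∀ z ∈ AssSch.Ass F, z ∈ CohB1.support F := fun z h =>
    hsupp.2 (H17.AssPts.nontrivial_stalk_of_ass F h)
  let J : Type u := {x : AssSch.Ass F // x.1 ∈ minAss F}
  haveI : HasProduct fun x : J => Q x.1 := inferInstance
  let Φ : F ⟶ ∏ᶜ fun x : J => Q x.1 := Pi.lift fun x => q x.1
  have hΦ : ∀ x : J, Φ ≫ Pi.π _ x = q x.1 := fun x => Pi.lift_π (fun x : J => q x.1) x
  let K : Subobject F := Subobject.mk (kernel.ι Φ)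
  have hKΦ : K.arrow ≫ Φ = 0 := by
    rw [← Subobject.underlyingIso_hom_comp_eq_mk, Category.assoc, kernel.condition, comp_zero]
  have hex : (ShortComplex.mk K.arrow Φ hKΦ).Exact :=
    ShortComplex.exact_of_f_is_kernel _ (IsKernel.isoKernel _ _ (kernelIsKernel Φ)
      (Subobject.underlyingIso (kernel.ι Φ)) (Subobject.underlyingIso_hom_comp_eq_mk _))
  let j : cokernel K.arrow ⟶ ∏ᶜ fun x : J => Q x.1 := cokernel.desc K.arrow Φ hKΦ
  haveI : Mono j := hex.mono_cokernelDesc
  have hj : cokernel.π K.arrow ≫ j = Φ := cokernel.π_desc _ _ _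
  let g : ∀ x : J, cokernel K.arrow ⟶ Q x.1 := fun x => j ≫ Pi.π _ x
  have hg : ∀ (x : J) (W : X.Opens) (t : Γ(F, W)),
      (g x).app W ((cokernel.π K.arrow).app W t) = (q x.1).app W t := fun x W t =>
    comp_apply' (by rw [show g x = j ≫ Pi.π _ x from rfl, ← Category.assoc, hj, hΦ]) W t
  have hgmono : ∀ (W : X.Opens) (s : Γ(cokernel K.arrow, W)), (∀ x, (g x).app W s = 0) → s = 0 :=
    fun W s h => H17.Primary.eq_zero_of_jointly_mono g (fun T a b hab => (cancel_mono j).1
      (Pi.hom_ext _ _ fun x => by rw [Category.assoc, Category.assoc]; exact hab x)) W s h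
  have hker : ∀ (W : X.Opens) (s : Γ((K : X.Modules), W)) (x : J), (q x.1).app W (K.arrow.app W s) = 0 := by
    intro W s x
    refine app_zero_apply ?_ W s
    rw [← hΦ x, ← Category.assoc, hKΦ, zero_comp]
  have hinj := fun W => H10Coh.injective_app_of_mono' K.arrow W
  have hS : (ShortComplex.mk K.arrow (cokernel.π K.arrow) (cokernel.condition _)).ShortExact :=
    { exact := ShortComplex.exact_cokernel _
      mono_f := inferInstanceAs (Mono K.arrow)
      epi_g := inferInstanceAs (Epi (cokernel.π K.arrow)) }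
  have hmem : ∀ (W : X.Opens) (t : Γ(F, W)), (∀ x : J, (q x.1).app W t = 0) → ∃ s, K.arrow.app W s = t :=
    fun W t ht => H10Coh.exists_app_eq_of_exact hS W t (hgmono W _ fun x => (hg x W t).trans (ht x))
  -- a section killed at a minimal associated point has zero germ there
  have hlocal : ∀ (x : J) (W : X.Opens) (hx : x.1.1 ∈ W) (t : Γ(F, W)),
      (Q x.1).presheaf.germ W x.1.1 hx ((q x.1).app W t) = 0 → F.presheaf.germ W x.1.1 hx t = 0 := by
    intro x W hx t ht
    obtain ⟨V, hxV, hV⟩ := H17.PrimaryDecomp.exists_nhd hF x.1.1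
    have hxO : x.1.1 ∈ W ⊓ V := ⟨hx, hxV⟩
    suffices h : F.presheaf.map (homOfLE (inf_le_left : W ⊓ V ≤ W)).op t = 0 by
      rw [← TopCat.Presheaf.germ_res_apply F.presheaf (homOfLE (inf_le_left : W ⊓ V ≤ W)) x.1.1 hxO t,
        h, map_zero]
    refine hz _ _ fun z => eq_zero_of_germ_ass (hQ z).1 (hA z) _ fun hzO => ?_
    obtain rfl : z = x.1 := Subtype.ext (x.2.2 z.1 z.2 (hV z.1 z.2 hzO.2))
    rw [res_apply, TopCat.Presheaf.germ_res_apply]
    exact ht
  have hKmin : ∀ (x : J), x.1.1 ∉ CohB1.support (K : X.Modules) := by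
    intro x hx
    obtain ⟨m, hm⟩ := @exists_ne _ (hsupp.1 hx) (0 : (K : X.Modules).presheaf.stalk x.1.1)
    obtain ⟨W, hxW, s, rfl⟩ := (K : X.Modules).presheaf.exists_germ_eq m
    have h0 := hlocal x W hxW (K.arrow.app W s) (by rw [hker, map_zero])
    obtain ⟨W', hxW', i1, i2, hW⟩ := F.presheaf.germ_eq x.1.1 hxW hxW _ 0 (h0.trans (map_zero _).symm)
    refine hm ?_
    rw [← TopCat.Presheaf.germ_res_apply (K : X.Modules).presheaf i1 x.1.1 hxW' s]
    have : (K : X.Modules).presheaf.map i1.op s = 0 := by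
      refine hinj W' ?_
      rw [map_zero, show K.arrow.app W' ((K : X.Modules).presheaf.map i1.op s) =
        F.presheaf.map i1.op (K.arrow.app W s) from res_apply K.arrow i1.le s]
      exact hW.trans (map_zero _)
    rw [this, map_zero]
  have hqc : Coh.IsQCoh (K : X.Modules) := by
    refine H10Coh.isQuasicoherent_of_localizing _ (fun W hW t s hs => ?_) fun W hW t s' => ?_
    · obtain ⟨n, hn⟩ := H29Blow.exists_pow_smul_eq_zero F hF.1 hW t (K.arrow.app W s)
        ((res_apply K.arrow (X.basicOpen_le t) s).symm.trans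
          ((congrArg (K.arrow.app (X.basicOpen t)) hs).trans (map_zero _)))
      exact ⟨n, hinj W (by rw [Scheme.Modules.Hom.app_smul, hn, map_zero])⟩
    · obtain ⟨n, s, hs⟩ := H29Blow.exists_pow_smul_eq_res F hF.1 hW t (K.arrow.app (X.basicOpen t) s')
      let S := (H17.Primary.finite_ass_affine hF hW).toFinset
      have hk : ∀ x : J, ∃ m : ℕ, t ^ m • (q x.1).app W s = 0 := fun x => by
        refine H29Blow.exists_pow_smul_eq_zero (Q x.1) (hQ x.1).1 hW t _ ?_
        rw [← res_apply (q x.1) (X.basicOpen_le t) s, hs, Scheme.Modules.Hom.app_smul, hker, smul_zero]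
      choose m hm using hk
      let k : X → ℕ := fun z => if h : z ∈ AssSch.Ass F ∧ z ∈ minAss F then m ⟨⟨z, h.1⟩, h.2⟩ else 0
      obtain ⟨y, hy⟩ := hmem W (t ^ S.sup k • s) fun x => by
        by_cases hxW : x.1.1 ∈ W
        · have hle : m x ≤ S.sup k := by
            have h1 := Finset.le_sup (f := k) ((H17.Primary.finite_ass_affine hF hW).mem_toFinset.2 ⟨x.1.2, hxW⟩)
            rwa [show k x.1.1 = m x from dif_pos ⟨x.1.2, x.2⟩] at h1
          rw [Scheme.Modules.Hom.app_smul, ← Nat.sub_add_cancel hle, pow_add, mul_smul, hm, smul_zero]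
        · exact eq_zero_of_germ_ass (hQ x.1).1 (hA x.1) _ fun hx => absurd hx hxW
      refine ⟨S.sup k + n, y, hinj _ ?_⟩
      rw [Scheme.Modules.Hom.app_smul]
      show K.arrow.app (X.basicOpen t) ((K : X.Modules).presheaf.map _ y) = _
      rw [res_apply K.arrow (X.basicOpen_le t) y, hy, Scheme.Modules.map_smul, pow_add, map_mul, mul_smul, hs]
  -- the associated points of the quotient are minimal
  have hassG : ∀ x, Curv2.IsAssPoint (cokernel K.arrow) x → x ∈ minAss F := by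
    intro x hx
    obtain ⟨hp, m, hm⟩ := hx
    obtain ⟨O, hxO, s, rfl⟩ := (cokernel K.arrow).presheaf.exists_germ_eq m
    obtain ⟨V, hV, hxV, hVO⟩ := exists_isAffineOpen_mem_and_subset (U := O) hxO
    have hVO' : V ≤ O := hVO
    by_contra hxmin
    -- all components have zero germ at `x`
    have hcomp : ∀ z : J, (Q z.1).presheaf.germ O x hxO ((g z).app O s) = 0 := by
      intro z
      by_contra hne
      have hmem : x ∈ AssSch.Ass (Q z.1) := by
        refine ⟨hp, (Q z.1).presheaf.germ O x hxO ((g z).app O s), ?_⟩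
        rw [← H06Mod.stalkLin_germ]
        refine le_antisymm ?_ ?_
        · rw [hm]
          refine Ideal.radical_mono fun a ha => ?_
          rw [Submodule.mem_colon_singleton, Submodule.mem_bot] at ha ⊢
          rw [← map_smul, ha, map_zero]
        · refine IsLocalRing.le_maximalIdeal fun h => hne ?_
          rw [Ideal.radical_eq_top, Ideal.eq_top_iff_one, Submodule.mem_colon_singleton, one_smul,
            Submodule.mem_bot, H06Mod.stalkLin_germ] at h
          exact h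
      rw [hA z.1, Set.mem_singleton_iff] at hmem
      exact hxmin (hmem ▸ z.2)
    -- shrink so that they vanish
    let S := {z : J | z.1.1 ∈ V}
    have hS : S.Finite := by
      refine ((H17.Primary.finite_ass_affine hF hV).preimage (f := fun z : J => z.1.1)
        fun a _ b _ h => Subtype.ext (Subtype.ext h)).subset fun z hz => ⟨z.1.2, hz⟩
    have hW : ∀ z : J, ∃ (W : X.Opens) (_ : x ∈ W) (h : W ≤ O),
        (Q z.1).presheaf.map (homOfLE h).op ((g z).app O s) = 0 := by
      intro z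
      obtain ⟨W, hxW, i1, i2, hW⟩ := (Q z.1).presheaf.germ_eq x hxO hxO _ 0 ((hcomp z).trans (map_zero _).symm)
      exact ⟨W, hxW, i1.le, hW.trans (map_zero _)⟩
    choose W hxW hWO hW0 using hW
    have hopen : IsOpen (⋂ z ∈ S, (W z : Set X)) := hS.isOpen_biInter fun z _ => (W z).2
    let O' : X.Opens := V ⊓ ⟨_, hopen⟩
    have hxO' : x ∈ O' := ⟨hxV, Set.mem_iInter₂.2 fun z _ => hxW z⟩
    have hO' : O' ≤ O := inf_le_left.trans hVO'
    have h0 : (cokernel K.arrow).presheaf.map (homOfLE hO').op s = 0 := by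
      refine hgmono _ _ fun z => ?_
      rw [res_apply]
      by_cases hzV : z ∈ S
      · have hle : O' ≤ W z := fun y hy => Set.mem_iInter₂.1 hy.2 z hzV
        have := congrArg ((Q z.1).presheaf.map (homOfLE hle).op) (hW0 z)
        rw [map_zero, ← ConcreteCategory.comp_apply, ← Functor.map_comp] at this
        exact this
      · exact eq_zero_of_germ_ass (hQ z.1).1 (hA z.1) _ fun hz => absurd hz.1 hzV
    rw [← TopCat.Presheaf.germ_res_apply (cokernel K.arrow).presheaf (homOfLE hO') x hxO' s, h0, map_zero] at hm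
    exact hp.ne_top (hm.trans (Ideal.radical_eq_top.2 (by ext; simp [Submodule.mem_colon_singleton])))
  have hqcG : Coh.IsQCoh (cokernel K.arrow) :=
    (H10Coh.isCoh_cokernel K.arrow hqc hF).1
  have hGmin : ∀ x : J, x.1.1 ∈ CohB1.support (cokernel K.arrow) := by
    intro x
    obtain ⟨m, hm⟩ := @exists_ne _ (H17.AssPts.nontrivial_stalk_of_ass F x.1.2) (0 : F.presheaf.stalk x.1.1)
    obtain ⟨W, hxW, t, rfl⟩ := F.presheaf.exists_germ_eq m
    refine hsupp.2 (nontrivial_of_ne ((cokernel K.arrow).presheaf.germ W x.1.1 hxW ((cokernel.π K.arrow).app W t)) 0 fun h => ?_)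
    refine hm (hlocal x W hxW t ?_)
    rw [← hg x W t, ← H06Mod.stalkLin_germ, h, map_zero]
  let E : Set X := {w | w ∈ AssSch.Ass F ∧ w ∉ minAss F}
  have hT : IsClosed (⋃ w ∈ E, closure ({w} : Set X)) := by
    rw [← isOpen_compl_iff, isOpen_iff_forall_mem_open]
    intro y hy
    obtain ⟨V, hV, hyV, -⟩ := exists_isAffineOpen_mem_and_subset (U := (⊤ : X.Opens)) (x := y) trivial
    let S := {w | w ∈ E ∧ w ∈ V}
    have hS : S.Finite := (H17.Primary.finite_ass_affine hF hV).subset fun w hw => ⟨hw.1.1, hw.2⟩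
    have hcl : IsClosed (⋃ w ∈ S, closure ({w} : Set X)) := hS.isClosed_biUnion fun _ _ => isClosed_closure
    refine ⟨(V : Set X) ∩ (⋃ w ∈ S, closure ({w} : Set X))ᶜ, fun a ha h => ?_, V.2.inter hcl.isOpen_compl,
      hyV, fun h => ?_⟩
    · obtain ⟨w, hw, hwa⟩ := Set.mem_iUnion₂.1 h
      exact ha.2 (Set.mem_biUnion (show w ∈ S from
        ⟨hw, (specializes_iff_mem_closure.2 hwa).mem_open V.2 ha.1⟩) hwa)
    · obtain ⟨w, hw, hwy⟩ := Set.mem_iUnion₂.1 h
      exact hy (Set.mem_biUnion hw.1 hwy)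
  let U₀ : X.Opens := ⟨_, hT.isOpen_compl⟩
  have hminU : ∀ z ∈ minAss F, z ∈ U₀ := by
    intro z hz h
    obtain ⟨w, hw, hwz⟩ := Set.mem_iUnion₂.1 h
    exact hw.2 ((hz.2 w hw.1 (specializes_iff_mem_closure.2 hwz)).symm ▸ hz)
  refine ⟨K, H10Coh.isCoh_of_mono K.arrow hqc hF, ?_, ?_, ?_, ?_, U₀, ?_, ?_, ?_⟩
  · intro U hU
    refine Set.eq_empty_iff_forall_notMem.2 fun y hy => ?_
    obtain ⟨z, hz, hzy⟩ := hsF y hy.2
    exact hKmin ⟨⟨z, hz.1⟩, hz⟩ (hU ⟨hzy.mem_open U.2 hy.1, hassF z hz.1⟩)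
  · intro K' hK' hnd
    have hK'x : ∀ x : J, x.1.1 ∉ CohB1.support (K' : X.Modules) := by
      intro x hx
      obtain ⟨V, hxV, hV⟩ := H17.PrimaryDecomp.exists_nhd hF x.1.1
      refine Set.eq_empty_iff_forall_notMem.1 (hnd V fun y hy => ?_) x.1.1 ⟨hxV, hassF _ x.1.2⟩
      obtain ⟨z, hz, hzy⟩ := hsF y hy.2
      obtain rfl : z = x.1.1 := x.2.2 z hz.1 (hV z hz.1 (hzy.mem_open V.2 hy.1))
      exact hsupp.2 (nontrivial_of_specializes _ hK'.1 hzy (hsupp.1 hx))
    refine Subobject.le_mk_of_comm (kernel.lift Φ K'.arrow ?_) (kernel.lift_ι _ _ _)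
    refine Pi.hom_ext _ _ fun x => ?_
    rw [Category.assoc, hΦ, zero_comp]
    apply Scheme.Modules.hom_ext
    intro W
    ext s
    refine eq_zero_of_germ_ass (hQ x.1).1 (hA x.1) _ fun hx => ?_
    haveI := not_not.1 (hK'x x)
    show (Q x.1).presheaf.germ W x.1.1 hx ((q x.1).app W (K'.arrow.app W s)) = 0
    rw [← H06Mod.stalkLin_germ, ← H06Mod.stalkLin_germ, Subsingleton.elim
      ((K' : X.Modules).presheaf.germ W x.1.1 hx s) 0, map_zero, map_zero]
  · refine Set.ext fun y => ⟨fun hy => ?_, fun hy => ?_⟩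
    · obtain ⟨w, hw, hwy⟩ := H17.AssPts.exists_ass_specializes _ hqcG (hsupp.1 hy)
      exact hsupp.2 (nontrivial_of_specializes F hF.1 hwy (hsupp.1 (hassF w (hassG w hw).1)))
    · obtain ⟨z, hz, hzy⟩ := hsF y hy
      exact hsupp.2 (nontrivial_of_specializes _ hqcG hzy (hsupp.1 (hGmin ⟨⟨z, hz.1⟩, hz⟩)))
  · intro x hx y hy hyx
    exact (hassG x hx).2 y (hassG y hy).1 hyx
  · refine dense_iff_inter_open.2 fun W hW ⟨y, hy⟩ => ?_
    by_cases hyT : y ∈ U₀
    · exact ⟨y, hy, hyT⟩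
    · obtain ⟨w, hw, hwy⟩ := Set.mem_iUnion₂.1 (not_not.1 hyT)
      obtain ⟨z, hz, hzy⟩ := exists_minAss F hF ⟨w, hw.1, specializes_iff_mem_closure.2 hwy⟩
      exact ⟨z, hzy.mem_open hW hy, hminU z hz⟩
  · intro y hy
    refine mem_closure_iff.2 fun W hW hyW => ?_
    obtain ⟨z, hz, hzy⟩ := hsF y hy
    exact ⟨z, hzy.mem_open hW hyW, hminU z hz, hassF z hz.1⟩
  · have hK0 : ∀ (W : X.Opens), W ≤ U₀ → ∀ s : Γ((K : X.Modules), W), s = 0 := by
      intro W hW s
      refine hinj W ((hz W _ fun z => ?_).trans (map_zero _).symm)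
      by_cases hzm : z.1 ∈ minAss F
      · exact hker W s ⟨z, hzm⟩
      · exact eq_zero_of_germ_ass (hQ z).1 (hA z) _ fun hzW =>
          absurd (Set.mem_biUnion (show z.1 ∈ E from ⟨z.2, hzm⟩) (subset_closure (Set.mem_singleton _))) (hW hzW)
    haveI : Epi ((Scheme.Modules.restrictFunctor U₀.ι).map (cokernel.π K.arrow)) := inferInstance
    haveI : Mono ((Scheme.Modules.restrictFunctor U₀.ι).map (cokernel.π K.arrow)) := by
      refine H11Tilde.mono_of_injective _ fun W s hs y hy => ⟨W, le_rfl, hy, ?_⟩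
      obtain ⟨r, hr⟩ := H10Coh.exists_app_eq_of_exact hS (U₀.ι ''ᵁ W) s hs
      rw [hK0 _ ((U₀.ι.image_le_opensRange W).trans U₀.opensRange_ι.le) r, map_zero] at hr
      exact (congrArg ((F.restrict U₀.ι).presheaf.map (homOfLE (le_refl W)).op) hr.symm).trans (map_zero _)
    exact isIso_of_mono_of_epi _

end Groth.Agent.H11Embedded
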